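import Groth.Agent.FinModelLib.Model
import Groth.Agent.ProjBundleLib.TwistIso

/-!
# The model is isomorphic over the free locus and over the normal points
-/

set_option autoImplicit false
set_option linter.style.haveILetI false
set_option backward.isDefEq.respectTransparency false
set_option maxHeartbeats 1000000

universe u

open CategoryTheory CategoryTheory.Limits AlgebraicGeometry TopologicalSpace Opposite
open Groth.Agent.NormAmpleLib

noncomputable section

namespace Groth.Agent.FinModelLib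

/-- An element of a localization of a domain integral over it is a fraction prime to a normal prime. -/
theorem exists_mul_of_isIntegral {A B : Type u} [CommRing A] [IsDomain A] [CommRing B] [Algebra A B] {f : A} (hf : f ≠ 0)
    [IsLocalization.Away f B] (p : Ideal A) [p.IsPrime] [IsIntegrallyClosed (Localization.AtPrime p)] (x : B)
    (hx : IsIntegral A x) : ∃ s ∉ p, ∃ r : A, algebraMap A B s * x = algebraMap A B r := by
  let K := FractionRing A
  have hf' : IsUnit (algebraMap A K f) :=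
    IsUnit.mk0 _ (by simpa using (IsFractionRing.injective A K).ne hf)
  letI : Algebra B K := (IsLocalization.Away.lift f hf' : B →+* K).toAlgebra
  haveI : IsScalarTower A B K := .of_algebraMap_eq fun y => (IsLocalization.Away.lift_eq f hf' y).symm
  haveI : IsFractionRing B K :=
    IsFractionRing.isFractionRing_of_isDomain_of_isLocalization (Submonoid.powers f) B K
  let P := Localization.AtPrime p
  have hu : ∀ y : p.primeCompl, IsUnit (algebraMap A K y) := fun y =>
    IsUnit.mk0 _ (by simpa using (IsFractionRing.injective A K).ne (fun hy : (y : A) = 0 => y.2 (hy ▸ p.zero_mem)))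
  letI : Algebra P K := (IsLocalization.lift hu : P →+* K).toAlgebra
  haveI : IsScalarTower A P K := .of_algebraMap_eq fun y => (IsLocalization.lift_eq hu y).symm
  haveI : IsFractionRing P K :=
    IsFractionRing.isFractionRing_of_isDomain_of_isLocalization p.primeCompl P K
  obtain ⟨y, hy⟩ := IsIntegrallyClosed.isIntegral_iff.1 ((hx.map (IsScalarTower.toAlgHom A B K)).tower_top (A := P))
  obtain ⟨⟨r, s⟩, hrs⟩ := IsLocalization.surj p.primeCompl y
  refine ⟨s, s.2, r, IsFractionRing.injective B K ?_⟩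
  have h1 := congrArg (algebraMap P K) hrs
  rw [map_mul, hy, ← IsScalarTower.algebraMap_apply, ← IsScalarTower.algebraMap_apply] at h1
  rw [map_mul, ← IsScalarTower.algebraMap_apply, ← IsScalarTower.algebraMap_apply, mul_comm]
  exact h1

variable {X X' Z : Scheme.{u}} {g : X' ⟶ X} [IsFinite g] [IsNoetherian X] [IsReduced X] {h : Z ⟶ X}
  {s : (freeLocus g : Scheme.{u}) ⟶ Z} (hs : s ≫ h = (freeLocus g).ι) [IsFinite h]
  [IsSchemeTheoreticallyDominant s] [QuasiCompact s]

include hs in
theorem app_injective_model (U : X.Opens) : Function.Injective (h.app U) := fun a b hab =>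
  eq_of_nice (g := g) fun W hW d hWa hn => by
    have hW' : W ≤ U ⊓ freeLocus g := le_inf hW (NAff.mk W d hWa hn).le
    have e := congrArg (X.presheaf.map (homOfLE hW').op) (congrArg (toAmbient _ h s hs U) hab)
    rw [toAmbient_app, toAmbient_app, res_res', res_res'] at e
    exact e

include hs in
theorem isIso_restrict_of_le {U : X.Opens} (hU : IsAffineOpen U) (hU0 : U ≤ freeLocus g) : IsIso (h ∣_ U) := by
  refine ProjBundleLib.isIso_of_bijective_appLE h rfl hU (hU.preimage h) ?_
  rw [← Scheme.Hom.app_eq_appLE]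
  refine ⟨app_injective_model hs U, fun z => ?_⟩
  refine ⟨X.presheaf.map (homOfLE (le_inf le_rfl hU0)).op (toAmbient _ h s hs U z),
    toAmbient_injective _ h s hs U ?_⟩
  rw [toAmbient_app, res_res']
  simp only [homOfLE_refl, op_id, CategoryTheory.Functor.map_id, CommRingCat.id_apply]

include hs in
theorem exists_isIso_restrict_normal {x : X} [IsDomain (X.presheaf.stalk x)] [IsIntegrallyClosed (X.presheaf.stalk x)] :
    ∃ U : X.Opens, x ∈ U ∧ IsIso (h ∣_ U) := by
  classical
  obtain ⟨V, hxV, hV⟩ := NormalSch.exists_nhd_subset_closure x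
  obtain ⟨_, ⟨D, hD, rfl⟩, hx, hDV⟩ := X.isBasis_affineOpens.exists_subset_of_mem_open hxV V.2
  set ξ := X.fromSpecStalk x (⊥ : PrimeSpectrum (X.presheaf.stalk x))
  have hξ : (D : Set X) ⊆ closure {ξ} := fun y hy => hV (hDV hy)
  have hgen : ∀ {U : X.Opens} {y : X}, y ∈ D → y ∈ U → ξ ∈ U := fun {U y} hyD hyU =>
    (specializes_iff_mem_closure.2 (hξ hyD)).mem_open U.2 hyU
  haveI : Nonempty D := ⟨⟨x, hx⟩⟩
  haveI : IsDomain Γ(X, D) := by
    haveI : Nontrivial Γ(X, D) := inferInstance
    haveI : NoZeroDivisors Γ(X, D) := ⟨fun {r t} hrt => by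
      by_contra hne
      push Not at hne
      obtain ⟨hr, ht⟩ := hne
      have hb : ∀ {t : Γ(X, D)}, t ≠ 0 → ξ ∈ X.basicOpen t := fun {t} ht => by
        obtain ⟨y, hy⟩ : ∃ y, y ∈ X.basicOpen t := by
          by_contra hh
          exact ht ((basicOpen_eq_bot_iff t).1 (Opens.ext (Set.eq_empty_iff_forall_notMem.2 fun y hy => hh ⟨y, hy⟩)))
        exact hgen (X.basicOpen_le t hy) hy
      have hm : ξ ∈ X.basicOpen (r * t) := by rw [Scheme.basicOpen_mul]; exact ⟨hb hr, hb ht⟩
      rw [hrt, Scheme.basicOpen_zero] at hm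
      exact hm⟩
    exact NoZeroDivisors.to_isDomain _
  let O := freeLocus g
  obtain ⟨y, hyD, hyO⟩ := (dense_freeLocus g).exists_mem_open D.2 ⟨x, hx⟩
  have hξD : ξ ∈ D ⊓ O := ⟨hgen hx hx, hgen (U := O) hyO hyD⟩
  obtain ⟨f, hf, hξf⟩ := hD.exists_basicOpen_le (V := D ⊓ O) ⟨ξ, hξD⟩ hξD.1
  have hf0 : f ≠ 0 := fun h0 => by
    rw [h0, Scheme.basicOpen_zero] at hξf
    exact hξf
  let p := (hD.primeIdealOf ⟨x, hx⟩).asIdeal
  haveI : IsIntegrallyClosed (Localization.AtPrime p) := by
    letI : Algebra Γ(X, D) (X.presheaf.stalk x) := TopCat.Presheaf.algebra_section_stalk X.presheaf ⟨x, hx⟩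
    haveI := hD.isLocalization_stalk ⟨x, hx⟩
    exact IsIntegrallyClosed.of_equiv (IsLocalization.algEquiv p.primeCompl (X.presheaf.stalk x) (Localization.AtPrime p)).toRingEquiv
  haveI : IsLocalization.Away f Γ(X, X.basicOpen f) := hD.isLocalization_basicOpen f
  have hmul : ∀ u : Γ(Z, h ⁻¹ᵁ D), ∃ t ∉ p, ∃ r : Γ(X, D), h.app D t * u = h.app D r := fun u => by
    have hint : IsIntegral Γ(X, D) (X.presheaf.map (homOfLE hf).op (toAmbient O h s hs D u) : Γ(X, X.basicOpen f)) := by
      obtain ⟨q, hq, hq0⟩ := (h.finite_app D hD).to_isIntegral u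
      refine ⟨q, hq, ?_⟩
      have e : algebraMap Γ(X, D) Γ(X, X.basicOpen f) =
          ((X.presheaf.map (homOfLE hf).op).hom.comp (toAmbient O h s hs D).hom).comp (h.app D).hom :=
        RingHom.ext fun a => by
          show X.presheaf.map _ a = X.presheaf.map _ (toAmbient O h s hs D (h.app D a))
          rw [toAmbient_app, res_res']
      rw [e]
      exact (Polynomial.hom_eval₂ q (h.app D).hom
        ((X.presheaf.map (homOfLE hf).op).hom.comp (toAmbient O h s hs D).hom) u).symm.trans (by rw [hq0, map_zero])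
    obtain ⟨t, ht, r, hr⟩ := exists_mul_of_isIntegral hf0 p _ hint
    refine ⟨t, ht, r, toAmbient_injective O h s hs D ?_⟩
    rw [map_mul, toAmbient_app, toAmbient_app, ← sub_eq_zero, ← basicOpen_eq_bot_iff]
    by_contra hne
    obtain ⟨z, hz⟩ : ∃ z, z ∈ X.basicOpen (X.presheaf.map (homOfLE inf_le_left).op t * toAmbient O h s hs D u -
        X.presheaf.map (homOfLE (inf_le_left : D ⊓ O ≤ D)).op r) := by
      by_contra hh
      exact hne (Opens.ext (Set.eq_empty_iff_forall_notMem.2 fun z hz => hh ⟨z, hz⟩))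
    have hξz := hgen (X.basicOpen_le _ hz).1 hz
    have h1 : ξ ∈ X.basicOpen (X.presheaf.map (homOfLE hf).op
        (X.presheaf.map (homOfLE inf_le_left).op t * toAmbient O h s hs D u -
        X.presheaf.map (homOfLE (inf_le_left : D ⊓ O ≤ D)).op r)) := by
      rw [Scheme.basicOpen_res]; exact ⟨hξf, hξz⟩
    have hr' : X.presheaf.map (homOfLE (hf.trans inf_le_left)).op t *
        X.presheaf.map (homOfLE hf).op (toAmbient O h s hs D u) =
        X.presheaf.map (homOfLE (hf.trans inf_le_left)).op r := hr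
    rw [map_sub, map_mul, res_res', res_res', hr', sub_self, Scheme.basicOpen_zero] at h1
    exact h1
  letI := (h.app D).hom.toAlgebra
  haveI : Module.Finite Γ(X, D) Γ(Z, h ⁻¹ᵁ D) := h.finite_app D hD
  obtain ⟨G, hG⟩ := Module.Finite.fg_top (R := Γ(X, D)) (M := Γ(Z, h ⁻¹ᵁ D))
  choose t ht r hr using hmul
  let τ := ∏ u ∈ G, t u
  have hτ : τ ∉ p := fun hτ => by
    obtain ⟨u, -, hu⟩ := (Ideal.IsPrime.prod_mem_iff (hp := inferInstance)).1 hτ
    exact ht u hu
  have hrange : ∀ z : Γ(Z, h ⁻¹ᵁ D), ∃ a : Γ(X, D), h.app D τ * z = h.app D a := fun z => by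
    have hz : z ∈ Submodule.span Γ(X, D) (G : Set Γ(Z, h ⁻¹ᵁ D)) := hG.ge trivial
    induction hz using Submodule.span_induction with
    | mem u hu =>
      refine ⟨(∏ v ∈ G.erase u, t v) * r u, ?_⟩
      rw [map_mul (h.app D).hom, ← hr, ← mul_assoc, ← map_mul, mul_comm _ (t u), Finset.mul_prod_erase _ _ hu]
    | zero => exact ⟨0, by rw [mul_zero, map_zero]⟩
    | add a b _ _ ha hb =>
      obtain ⟨a', ha⟩ := ha
      obtain ⟨b', hb⟩ := hb
      exact ⟨a' + b', by rw [mul_add, ha, hb, map_add]⟩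
    | smul c a _ ha =>
      obtain ⟨a', ha⟩ := ha
      exact ⟨c * a', by rw [Algebra.smul_def, mul_left_comm, ha, map_mul]; rfl⟩
  let U := X.basicOpen τ
  have hUD : U ≤ D := X.basicOpen_le τ
  have hxU : x ∈ U := by
    have h' := SetLike.ext_iff.mp (hD.fromSpec_preimage_basicOpen τ) (hD.primeIdealOf ⟨x, hx⟩)
    rw [Scheme.Hom.mem_preimage, hD.fromSpec_primeIdealOf] at h'
    exact h'.mpr hτ
  refine ⟨U, hxU, ProjBundleLib.isIso_of_bijective_appLE h rfl (hD.basicOpen τ) ((hD.basicOpen τ).preimage h) ?_⟩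
  rw [← Scheme.Hom.app_eq_appLE]
  refine ⟨app_injective_model hs U, fun z => ?_⟩
  have hpre : h ⁻¹ᵁ U = Z.basicOpen (h.app D τ) := Scheme.preimage_basicOpen h τ
  letI : Algebra Γ(Z, h ⁻¹ᵁ D) Γ(Z, h ⁻¹ᵁ U) := (Z.presheaf.map (homOfLE (h.preimage_mono hUD)).op).hom.toAlgebra
  haveI : IsLocalization.Away (h.app D τ) Γ(Z, h ⁻¹ᵁ U) :=
    (hD.preimage h).isLocalization_of_eq_basicOpen _ (homOfLE (h.preimage_mono hUD)) hpre
  obtain ⟨k, z₀, hz₀⟩ := IsLocalization.Away.surj (S := Γ(Z, h ⁻¹ᵁ U)) (h.app D τ) z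
  obtain ⟨a, ha⟩ := hrange z₀
  have hnat : ∀ b : Γ(X, D), algebraMap Γ(Z, h ⁻¹ᵁ D) Γ(Z, h ⁻¹ᵁ U) (h.app D b) =
      h.app U (X.presheaf.map (homOfLE hUD).op b) := fun b =>
    (ConcreteCategory.congr_hom (h.naturality (homOfLE hUD).op) b).symm
  have hu : IsUnit (X.presheaf.map (homOfLE hUD).op τ) := RingedSpace.isUnit_res_basicOpen X.toRingedSpace τ
  obtain ⟨v, hv⟩ := (hu.pow (k + 1)).exists_right_inv
  refine ⟨X.presheaf.map (homOfLE hUD).op a * v, ?_⟩
  have e1 : h.app U (X.presheaf.map (homOfLE hUD).op a) = z * (h.app U (X.presheaf.map (homOfLE hUD).op τ)) ^ (k + 1) := by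
    rw [← hnat, ← hnat, ← ha, map_mul, pow_succ, ← mul_assoc, hz₀, mul_comm]
  rw [map_mul, e1, mul_assoc, ← map_pow, ← map_mul, hv, map_one, mul_one]

end Groth.Agent.FinModelLib
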