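import Groth.Agent.FinModelLib.Birat
import Groth.Agent.NormAmpleLib.Descent

/-!
# Ampleness descends to the model
-/

set_option autoImplicit false
set_option linter.style.haveILetI false
set_option backward.isDefEq.respectTransparency false
set_option maxHeartbeats 1000000

universe u

open CategoryTheory CategoryTheory.Limits AlgebraicGeometry TopologicalSpace Opposite
open Groth.Agent.ParaFLib Groth.Agent.PullbackMod Groth.Agent.DCohLib Groth.Agent.AmpleLib
open Groth.Agent.NormAmpleLib (res_res')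

noncomputable section

namespace Groth.Agent.FinModelLib

variable {X X' Z : Scheme.{u}} {g : X' ⟶ X} [IsFinite g] [Surjective g] [IsNoetherian X] [IsReduced X] {h : Z ⟶ X}
  {s : (freeLocus g : Scheme.{u}) ⟶ Z} (hs : s ≫ h = (freeLocus g).ι) {R : ℕ}

/-- Over `D` the scaled norms are values on the model of a polynomial without constant term. -/
def HasPoly (R : ℕ) (D : X.Opens) : Prop :=
  ∃ (σ : Type u) (_ : Fintype σ) (y : σ → Γ(X', g ⁻¹ᵁ D)) (P : MvPolynomial σ Γ(Z, h ⁻¹ᵁ D)),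
    IsAffineOpen D ∧ (∀ a : Γ(X', g ⁻¹ᵁ D), ∃ r : σ → Γ(X, D), a = ∑ j, g.app D (r j) * y j) ∧
    MvPolynomial.constantCoeff P = 0 ∧
    ∀ (W : X.Opens) (hW : W ≤ D) (r : σ → Γ(X, W)),
      toAmbient (freeLocus g) h s hs W (MvPolynomial.eval (fun j => h.app W (r j))
        (MvPolynomial.map (Z.presheaf.map (homOfLE (h.preimage_mono hW)).op).hom P)) =
      normR R (∑ j, g.app W (r j) * X'.presheaf.map (homOfLE (g.preimage_mono hW)).op (y j))

theorem HasPoly.basicOpen {D : X.Opens} (hD : HasPoly hs R D) (f : Γ(X, D)) : HasPoly hs R (X.basicOpen f) := by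
  obtain ⟨σ, _, y, P, haff, hgen, hP0, hPev⟩ := hD
  let W := X.basicOpen f
  have hWD : W ≤ D := X.basicOpen_le f
  let y' : σ → Γ(X', g ⁻¹ᵁ W) := fun j => X'.presheaf.map (homOfLE (g.preimage_mono hWD)).op (y j)
  let ρ := (Z.presheaf.map (homOfLE (h.preimage_mono hWD)).op).hom
  letI := (X.presheaf.map (homOfLE hWD).op).hom.toAlgebra
  haveI : IsLocalization.Away f Γ(X, W) := haff.isLocalization_basicOpen f
  letI : Algebra Γ(X', g ⁻¹ᵁ D) Γ(X', g ⁻¹ᵁ W) := (X'.presheaf.map (homOfLE (g.preimage_mono hWD)).op).hom.toAlgebra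
  haveI : IsLocalization.Away (g.app D f) Γ(X', g ⁻¹ᵁ W) :=
    (haff.preimage g).isLocalization_of_eq_basicOpen _ (homOfLE (g.preimage_mono hWD)) (Scheme.preimage_basicOpen g f)
  refine ⟨σ, inferInstance, y', MvPolynomial.map ρ P, haff.basicOpen f, fun a => ?_,
    by rw [MvPolynomial.constantCoeff_map, hP0, map_zero], fun U hU r => ?_⟩
  · obtain ⟨k, a₀, ha₀⟩ := IsLocalization.Away.surj (S := Γ(X', g ⁻¹ᵁ W)) (g.app D f) a
    obtain ⟨r, hr⟩ := hgen a₀
    have hu : IsUnit (X.presheaf.map (homOfLE hWD).op f) := RingedSpace.isUnit_res_basicOpen X.toRingedSpace f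
    obtain ⟨v, hv⟩ := (hu.pow k).exists_right_inv
    refine ⟨fun j => X.presheaf.map (homOfLE hWD).op (r j) * v, ?_⟩
    have e1 : a * g.app W (X.presheaf.map (homOfLE hWD).op f) ^ k =
        ∑ j, g.app W (X.presheaf.map (homOfLE hWD).op (r j)) * y' j := by
      rw [← res_app hWD]
      refine ha₀.trans ?_
      show X'.presheaf.map _ a₀ = _
      rw [hr, map_sum]
      exact Finset.sum_congr rfl fun j _ => by rw [map_mul, res_app]
    calc a = a * g.app W (X.presheaf.map (homOfLE hWD).op f ^ k * v) := by rw [hv, map_one, mul_one]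
      _ = (a * g.app W (X.presheaf.map (homOfLE hWD).op f) ^ k) * g.app W v := by rw [map_mul, map_pow, mul_assoc]
      _ = _ := by
        rw [e1, Finset.sum_mul]
        exact Finset.sum_congr rfl fun j _ => by rw [map_mul, mul_right_comm]
  · have e : (Z.presheaf.map (homOfLE (h.preimage_mono hU)).op).hom.comp ρ =
        (Z.presheaf.map (homOfLE (h.preimage_mono (hU.trans hWD))).op).hom := RingHom.ext fun z => res_res' Z _ _ z
    rw [MvPolynomial.map_map, e]
    refine (hPev U (hU.trans hWD) r).trans ?_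
    simp only [y']
    exact congrArg (normR R) (Finset.sum_congr rfl fun j _ => congrArg (_ * ·) (res_res' X' _ _ _).symm)

theorem HasPoly.exists_val {D : X.Opens} (hD : HasPoly hs R D) (a : Γ(X', g ⁻¹ᵁ D)) :
    ∃ c : Γ(Z, h ⁻¹ᵁ D), toAmbient (freeLocus g) h s hs D c = normR R a := by
  obtain ⟨σ, _, y, P, haff, hgen, hP0, hPev⟩ := hD
  obtain ⟨r, hr⟩ := hgen a
  refine ⟨MvPolynomial.eval (fun j => h.app D (r j))
    (MvPolynomial.map (Z.presheaf.map (homOfLE (h.preimage_mono (le_refl D))).op).hom P), ?_⟩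
  rw [hPev D le_rfl r, hr]
  simp only [homOfLE_refl, op_id, CategoryTheory.Functor.map_id, CommRingCat.id_apply]

variable [IsSchemeTheoreticallyDominant s] [QuasiCompact s]

/-- The value is invertible at a point whose fibre avoids the zeros. -/
theorem HasPoly.mem_basicOpen {D : X.Opens} (hD : HasPoly hs R D) (a : Γ(X', g ⁻¹ᵁ D)) (c : Γ(Z, h ⁻¹ᵁ D))
    (hc : toAmbient (freeLocus g) h s hs D c = normR R a) {z : Z} (hz : h z ∈ D)
    (hfib : ∀ w, g w = h z → w ∈ X'.basicOpen a) : z ∈ Z.basicOpen c := by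
  have hC : IsClosed (g '' ((X'.basicOpen a : Set X')ᶜ)) := g.isClosedMap _ (X'.basicOpen a).2.isClosed_compl
  have hxC : h z ∈ D ⊓ (⟨(g '' ((X'.basicOpen a : Set X')ᶜ))ᶜ, hC.isOpen_compl⟩ : X.Opens) :=
    ⟨hz, fun ⟨w, hw, hwz⟩ => hw (hfib w hwz)⟩
  obtain ⟨-, -, -, -, haff, -⟩ := id hD
  obtain ⟨f, hf, hzf⟩ := haff.exists_basicOpen_le
    (V := D ⊓ (⟨(g '' ((X'.basicOpen a : Set X')ᶜ))ᶜ, hC.isOpen_compl⟩ : X.Opens)) ⟨h z, hxC⟩ hz
  let W := X.basicOpen f
  have hWD : W ≤ D := X.basicOpen_le f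
  have hu : IsUnit (X'.presheaf.map (homOfLE (g.preimage_mono hWD)).op a) :=
    X'.toRingedSpace.isUnit_of_isUnit_germ _ _ fun w hw => by
      have hwa : w ∈ X'.basicOpen a := by
        by_contra hne
        exact (hf hw).2 ⟨w, hne, rfl⟩
      erw [TopCat.Presheaf.germ_res_apply]
      exact (X'.mem_basicOpen a w (X'.basicOpen_le a hwa)).1 hwa
  obtain ⟨b, hb⟩ := hu.exists_right_inv
  obtain ⟨c', hc'⟩ := (hD.basicOpen hs f).exists_val hs b
  have h1 : Z.presheaf.map (homOfLE (h.preimage_mono hWD)).op c * c' = 1 := by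
    refine toAmbient_injective _ h s hs W ?_
    rw [map_mul, map_one, toAmbient_map _ h s hs hWD, hc, hc', ← normR_map hWD, ← normR_mul, hb, normR_one]
  have h2 : z ∈ Z.basicOpen (Z.presheaf.map (homOfLE (h.preimage_mono hWD)).op c) := by
    rw [Scheme.basicOpen_of_isUnit _ (IsUnit.of_mul_eq_one c' h1)]
    exact hzf
  rw [Scheme.basicOpen_res] at h2
  exact h2.2

/-- Where the value is invertible, some preimage avoids the zeros. -/
theorem HasPoly.exists_mem (hR : IsMult g R) {D : X.Opens} (hD : HasPoly hs R D) (a : Γ(X', g ⁻¹ᵁ D))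
    (c : Γ(Z, h ⁻¹ᵁ D)) (hc : toAmbient (freeLocus g) h s hs D c = normR R a) {z : Z} (hz : z ∈ Z.basicOpen c) :
    ∃ w, g w = h z ∧ w ∈ X'.basicOpen a := by
  obtain ⟨σ, _, y, P, haff, hgen, hP0, hPev⟩ := hD
  have hzD : h z ∈ D := Z.basicOpen_le c hz
  let p := (haff.primeIdealOf ⟨h z, hzD⟩).asIdeal
  let haff' := haff.preimage g
  let I : Ideal Γ(X', g ⁻¹ᵁ D) := p.map (g.app D).hom
  let S : Submonoid Γ(X', g ⁻¹ᵁ D) := p.primeCompl.map (g.app D).hom ⊔ Submonoid.powers a
  by_cases hdis : Disjoint (I : Set Γ(X', g ⁻¹ᵁ D)) S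
  · obtain ⟨q, hq, hIq, hqS⟩ := Ideal.exists_le_prime_disjoint I S hdis
    let w := haff'.fromSpec ⟨q, hq⟩
    refine ⟨w, ?_, ?_⟩
    · have hcomap : q.comap (g.app D).hom = p := by
        refine le_antisymm (fun t ht => ?_) (Ideal.map_le_iff_le_comap.1 hIq)
        by_contra htp
        exact Set.disjoint_left.1 hqS ht ((le_sup_left : _ ≤ S) ⟨t, htp, rfl⟩)
      have e := IsAffineOpen.SpecMap_appLE_fromSpec g haff haff' le_rfl
      show g w = h z
      refine ((congrArg (fun k : Spec Γ(X', g ⁻¹ᵁ D) ⟶ X => k ⟨q, hq⟩) e).symm).trans ?_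
      refine Eq.trans ?_ (haff.fromSpec_primeIdealOf ⟨h z, hzD⟩)
      show haff.fromSpec (Spec.map (g.appLE D (g ⁻¹ᵁ D) le_rfl) ⟨q, hq⟩) = _
      refine congrArg haff.fromSpec (PrimeSpectrum.ext ?_)
      show q.comap (g.appLE D (g ⁻¹ᵁ D) le_rfl).hom = p
      rw [← Scheme.Hom.app_eq_appLE]
      exact hcomap
    · have h' := SetLike.ext_iff.mp (haff'.fromSpec_preimage_basicOpen a) ⟨q, hq⟩
      refine h'.mpr fun ha => ?_
      exact Set.disjoint_left.1 hqS ha ((le_sup_right : _ ≤ S) (Submonoid.mem_powers a))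
  · exfalso
    obtain ⟨m, hmI, hmS⟩ := Set.not_disjoint_iff.1 hdis
    obtain ⟨_, ⟨t, ht, rfl⟩, _, ⟨k, rfl⟩, hmul⟩ := Submonoid.mem_sup.1 hmS
    have hrep : ∀ m ∈ I, ∃ r : σ → Γ(X, D), (∀ j, r j ∈ p) ∧ m = ∑ j, g.app D (r j) * y j := fun m hm => by
      induction hm using Submodule.span_induction with
      | mem _ hu =>
        obtain ⟨u, hu, rfl⟩ := hu
        obtain ⟨r, hr⟩ := hgen 1
        refine ⟨fun j => u * r j, fun j => p.mul_mem_right _ hu, ?_⟩
        refine (mul_one _).symm.trans ?_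
        rw [hr, Finset.mul_sum]
        exact Finset.sum_congr rfl fun j _ => by rw [map_mul, mul_assoc]
      | zero => exact ⟨0, fun j => p.zero_mem, by simp⟩
      | add b b' _ _ hb hb' =>
        obtain ⟨r, hr, rfl⟩ := hb
        obtain ⟨r', hr', rfl⟩ := hb'
        refine ⟨r + r', fun j => p.add_mem (hr j) (hr' j), ?_⟩
        rw [← Finset.sum_add_distrib]
        exact Finset.sum_congr rfl fun j _ => by rw [Pi.add_apply, map_add, add_mul]
      | smul b m _ hm =>
        obtain ⟨r, hr, rfl⟩ := hm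
        choose t ht using fun j => hgen (b * y j)
        refine ⟨fun l => ∑ j, r j * t j l, fun l => p.sum_mem fun j _ => p.mul_mem_right _ (hr j), ?_⟩
        rw [smul_eq_mul, Finset.mul_sum]
        simp only [map_sum, Finset.sum_mul]
        rw [Finset.sum_comm]
        refine Finset.sum_congr rfl fun j _ => ?_
        rw [mul_left_comm, ht j, Finset.mul_sum]
        exact Finset.sum_congr rfl fun l _ => by rw [map_mul, mul_assoc]
    obtain ⟨r, hr, hm⟩ := hrep m hmI
    let ρ := (Z.presheaf.map (homOfLE (h.preimage_mono (le_refl D))).op).hom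
    have key : h.app D t ^ R * c ^ k = MvPolynomial.eval (fun j => h.app D (r j)) (MvPolynomial.map ρ P) := by
      refine toAmbient_injective _ h s hs D ?_
      rw [hPev D le_rfl r]
      simp only [homOfLE_refl, op_id, CategoryTheory.Functor.map_id, CommRingCat.id_apply]
      rw [map_mul, map_pow, map_pow, toAmbient_app, hc, ← hm, ← hmul, normR_mul, normR_pow]
      exact congrArg (· * _) (normR_app hR t).symm
    let θ := Z.presheaf.germ (h ⁻¹ᵁ D) z hzD
    let M := (IsLocalRing.maximalIdeal (Z.presheaf.stalk z)).comap θ.hom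
    have hunit : ∀ u : Γ(X, D), u ∉ p ↔ IsUnit (θ (h.app D u)) := fun u => by
      have h' := SetLike.ext_iff.mp (haff.fromSpec_preimage_basicOpen u) (haff.primeIdealOf ⟨h z, hzD⟩)
      rw [Scheme.Hom.mem_preimage, haff.fromSpec_primeIdealOf] at h'
      have h'' : u ∉ p ↔ z ∈ Z.basicOpen (h.app D u) := by
        rw [← Scheme.preimage_basicOpen]
        exact h'.symm
      exact h''.trans (Z.mem_basicOpen _ z hzD)
    have hM : h.app D t ^ R * c ^ k ∈ M := by
      rw [key, ← Ideal.Quotient.eq_zero_iff_mem]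
      show (Ideal.Quotient.mk M) (MvPolynomial.eval (fun j => h.app D (r j)) (MvPolynomial.map ρ P)) = 0
      rw [MvPolynomial.map_eval]
      have e0 : (Ideal.Quotient.mk M) ∘ (fun j => h.app D (r j)) = 0 := funext fun j =>
        Ideal.Quotient.eq_zero_iff_mem.2 ((IsLocalRing.mem_maximalIdeal _).2 fun hu => (hunit (r j)).2 hu (hr j))
      rw [e0, MvPolynomial.eval_zero, MvPolynomial.constantCoeff_map, MvPolynomial.constantCoeff_map, hP0, map_zero,
        map_zero]
    refine (IsLocalRing.mem_maximalIdeal _).1 hM ?_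
    rw [map_mul, map_pow, map_pow]
    exact (((hunit t).1 ht).pow R).mul (((Z.mem_basicOpen c z hzD).1 hz).pow k)

/-- A section upstairs has a scaled norm on the model. -/
theorem exists_norm_section_model (hR : IsMult g R) [IsFinite h] (hcov : ∀ x : X, ∃ D, x ∈ D ∧ HasPoly hs R D)
    {P : X.Modules} (hP : PicF.IsInvertible P) (σ : Coh.structureModule X' ⟶ (Scheme.Modules.pullback g).obj P) :
    ∃ t : Coh.structureModule Z ⟶ CohB1.tensorPow ((Scheme.Modules.pullback h).obj P) R,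
      (∀ z : Z, (∀ w, g w = h z → w ∈ CohB1.genLocus _ σ) → z ∈ CohB1.genLocus _ t) ∧
      ∀ z ∈ CohB1.genLocus _ t, ∃ w : X', g w = h z ∧ w ∈ CohB1.genLocus _ σ := by
  classical
  let P' := (Scheme.Modules.pullback g).obj P
  let Q := (Scheme.Modules.pullback h).obj P
  have chart : ∀ x : X, ∃ (D : X.Opens) (e : Γ(P, D)), x ∈ D ∧ HasPoly hs R D ∧ Gen D e := fun x => by
    obtain ⟨D₀, hx, hD₀⟩ := hcov x
    obtain ⟨W, e, hxW, he⟩ := exists_gen_nhd hP x
    obtain ⟨-, -, -, -, haff, -⟩ := id hD₀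
    obtain ⟨f, hf, hxf⟩ := haff.exists_basicOpen_le (V := W) ⟨x, hxW⟩ hx
    exact ⟨X.basicOpen f, P.presheaf.map (homOfLE hf).op e, hxf, hD₀.basicOpen hs f, he.res hf⟩
  choose D e hxD hD he using chart
  have hcoef : ∀ x : X, ∃ a : Γ(X', g ⁻¹ᵁ D x), a • pullMap g P le_rfl (e x) = resT (sec σ) (g ⁻¹ᵁ D x) := fun x => by
    obtain ⟨a, ha⟩ := ((AmpleEmb.gen_pullMap g hP (he x)) _ le_rfl).2 (resT (sec σ) (g ⁻¹ᵁ D x))
    simp only [ParaFLib.res_self] at ha
    exact ⟨a, ha⟩
  choose a ha using hcoef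
  choose c hc using fun x => (hD x).exists_val hs (a x)
  let sf : ∀ x : X, Γ(CohB1.tensorPow Q R, h ⁻¹ᵁ D x) := fun x => c x • powLoc (pullMap h P le_rfl (e x)) R
  let G : TopCat.Sheaf Ab.{u} Z.carrier := ⟨(CohB1.tensorPow Q R).presheaf, (CohB1.tensorPow Q R).isSheaf⟩
  have hcompat : TopCat.Presheaf.IsCompatible G.obj (fun x : X => h ⁻¹ᵁ D x) sf := by
    intro x y
    let W := D x ⊓ D y
    have hWx : W ≤ D x := inf_le_left
    have hWy : W ≤ D y := inf_le_right
    let ex := P.presheaf.map (homOfLE hWx).op (e x)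
    let ey := P.presheaf.map (homOfLE hWy).op (e y)
    obtain ⟨v, hv⟩ := (((he x).res hWx) W le_rfl).2 ey
    simp only [ParaFLib.res_self] at hv
    change v • ex = ey at hv
    let ax := X'.presheaf.map (homOfLE (g.preimage_mono hWx)).op (a x)
    let ay := X'.presheaf.map (homOfLE (g.preimage_mono hWy)).op (a y)
    have e1 : ax • pullMap g P le_rfl ex = resT (sec σ) (g ⁻¹ᵁ W) := by
      rw [← NormAmpleLib.pullMap_res g P hWx, ← P'.map_smul, ha, resT, resT, ParaFLib.res_res]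
    have e2 : ay • pullMap g P le_rfl ey = resT (sec σ) (g ⁻¹ᵁ W) := by
      rw [← NormAmpleLib.pullMap_res g P hWy, ← P'.map_smul, ha, resT, resT, ParaFLib.res_res]
    rw [← hv, pullMap_smul, smul_smul, ← Scheme.Hom.app_eq_appLE, ← e1] at e2
    have e3 : ay * g.app W v = ax := NormAmpleLib.gen_smul_inj (AmpleEmb.gen_pullMap g hP ((he x).res hWx)) e2
    have e4 : Z.presheaf.map (homOfLE (h.preimage_mono hWy)).op (c y) * h.app W v ^ R =
        Z.presheaf.map (homOfLE (h.preimage_mono hWx)).op (c x) := by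
      refine toAmbient_injective _ h s hs W ?_
      rw [map_mul, map_pow, toAmbient_app, toAmbient_map _ h s hs hWy, toAmbient_map _ h s hs hWx, hc, hc, ← normR_map hWy, ← normR_map hWx]
      refine (congrArg (normR R ay * ·) (normR_app hR v).symm).trans ?_
      rw [← normR_mul, e3]
    show (CohB1.tensorPow Q R).presheaf.map (homOfLE (h.preimage_mono hWx)).op (sf x) =
      (CohB1.tensorPow Q R).presheaf.map (homOfLE (h.preimage_mono hWy)).op (sf y)
    simp only [sf]
    rw [Scheme.Modules.map_smul, Scheme.Modules.map_smul, powLoc_res (h.preimage_mono hWx),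
      powLoc_res (h.preimage_mono hWy), NormAmpleLib.pullMap_res h P hWx, NormAmpleLib.pullMap_res h P hWy,
      show P.presheaf.map (homOfLE hWy).op (e y) = v • ex from hv.symm, pullMap_smul, ← Scheme.Hom.app_eq_appLE,
      powLoc_smul, smul_smul, e4]
  obtain ⟨τ, hτ, -⟩ := G.existsUnique_gluing' (fun x : X => h ⁻¹ᵁ D x) ⊤ (fun x => homOfLE le_top)
    (fun z _ => Opens.mem_iSup.2 ⟨h z, hxD (h z)⟩) sf hcompat
  refine ⟨secHom (CohB1.tensorPow Q R) τ, ?_⟩
  have hloc : ∀ x : X, CohB1.genLocus _ (secHom (CohB1.tensorPow Q R) τ) ⊓ h ⁻¹ᵁ D x = Z.basicOpen (c x) := fun x =>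
    genLocus_inf_eq_basicOpen _ (gen_powLoc (AmpleEmb.gen_pullMap h hP (he x)) R) (a := c x)
      (by rw [sec_secHom]; exact (hτ x).symm)
  have hsa : ∀ x : X, CohB1.genLocus P' σ ⊓ g ⁻¹ᵁ D x = X'.basicOpen (a x) := fun x =>
    genLocus_inf_eq_basicOpen σ (AmpleEmb.gen_pullMap g hP (he x)) (ha x)
  refine ⟨fun z hz => ((hloc (h z)).ge ((hD (h z)).mem_basicOpen hs (a _) (c _) (hc _) (hxD _)
    fun w hw => (hsa (h z)).le ⟨hz w hw, (show g w ∈ D (h z) from hw.symm ▸ hxD _)⟩)).1, fun z hz => ?_⟩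
  obtain ⟨w, hwz, hw⟩ := (hD (h z)).exists_mem hs hR (a _) (c _) (hc _) ((hloc (h z)).le ⟨hz, hxD _⟩)
  exact ⟨w, hwz, ((hsa (h z)).ge hw).1⟩

/-- Ampleness upstairs gives ampleness on the model. -/
theorem isAmple_model (hR : IsMult g R) [IsFinite h] (hcov : ∀ x : X, ∃ D, x ∈ D ∧ HasPoly hs R D)
    {L : X.Modules} (hL : PicF.IsInvertible L) (hamp : CohB1.IsAmple ((Scheme.Modules.pullback g).obj L)) :
    CohB1.IsAmple ((Scheme.Modules.pullback h).obj L) := by
  haveI : CompactSpace Z := QuasiCompact.compactSpace_of_compactSpace h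
  refine ⟨isInvertible_pullback h hL, inferInstance, fun z => ?_⟩
  obtain ⟨_, ⟨N, hN, rfl⟩, hxN, -⟩ :=
    X.isBasis_affineOpens.exists_subset_of_mem_open (Set.mem_univ (h z)) isOpen_univ
  obtain ⟨n, σ, hfib, hsub, -⟩ := AmpleEmb.exists_genLocus_finite hamp (IsFinite.finite_preimage_singleton g (h z))
    (U := g ⁻¹ᵁ N) (fun w hw => show g w ∈ N from hw.symm ▸ hxN)
  let P := CohB1.tensorPow L (n + 1)
  let σ' : Coh.structureModule X' ⟶ (Scheme.Modules.pullback g).obj P := σ ≫ (pullPow g L (n + 1)).inv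
  have hσ' : CohB1.genLocus _ σ' = CohB1.genLocus _ σ := genLocus_comp_iso σ (pullPow g L (n + 1)).symm
  obtain ⟨t, h1, h2⟩ := exists_norm_section_model hs hR hcov (isInvertible_tensorPow hL (n + 1)) σ'
  obtain ⟨k, hk⟩ : ∃ k, (n + 1) * R = k + 1 :=
    ⟨(n + 1) * R - 1, (Nat.succ_pred_eq_of_pos (Nat.mul_pos n.succ_pos hR.1)).symm⟩
  let t' := t ≫ (powCongr (pullPow h L (n + 1)) R ≪≫ powMul _ (n + 1) R ≪≫
    eqToIso (congrArg (CohB1.tensorPow ((Scheme.Modules.pullback h).obj L)) hk)).hom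
  have hz : z ∈ CohB1.genLocus _ t' := by
    rw [genLocus_comp_iso]
    exact h1 z fun w hw => hσ'.ge (hfib hw)
  have htN : CohB1.genLocus _ t' ≤ h ⁻¹ᵁ N := fun y hy => by
    rw [genLocus_comp_iso] at hy
    obtain ⟨w, hwy, hw⟩ := h2 y hy
    show h y ∈ N
    rw [← hwy]
    exact hsub (hσ'.le hw)
  refine ⟨k, t', hz, ?_⟩
  have := isAffineOpen_inf_genLocus (isInvertible_tensorPow (isInvertible_pullback h hL) (k + 1)) t' (hN.preimage h)
  rwa [inf_eq_left.2 htN] at this

end Groth.Agent.FinModelLib
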