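import Groth.Agent.FinModelLib.Norm
import Groth.Agent.YBlowLib.Completion
import Groth.Agent.S0593

/-!
# A finite birational model containing all norms
-/

set_option autoImplicit false
set_option linter.style.haveILetI false
set_option backward.isDefEq.respectTransparency false
set_option maxHeartbeats 1000000

universe u

open CategoryTheory CategoryTheory.Limits AlgebraicGeometry TopologicalSpace Opposite
open Groth.Agent.NormAmpleLib

noncomputable section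

namespace Groth.Agent.FinModelLib

variable {X X' : Scheme.{u}}

/-- Restriction to an open subscheme, back in the ambient scheme. -/
def toAmbient (O : X.Opens) {Z : Scheme.{u}} (h : Z ⟶ X) (s : (O : Scheme.{u}) ⟶ Z) (hs : s ≫ h = O.ι) (U : X.Opens) :
    Γ(Z, h ⁻¹ᵁ U) ⟶ Γ(X, U ⊓ O) :=
  s.appLE (h ⁻¹ᵁ U) (O.ι ⁻¹ᵁ U) (by rw [← Scheme.Hom.comp_preimage, hs]) ≫ (O.ι.appIso (O.ι ⁻¹ᵁ U)).inv ≫
    X.presheaf.map (homOfLE (show U ⊓ O ≤ O.ι ''ᵁ (O.ι ⁻¹ᵁ U) by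
      rw [Scheme.Hom.image_preimage_eq_opensRange_inf, Scheme.Opens.opensRange_ι, inf_comm])).op

variable (O : X.Opens) {Z : Scheme.{u}} (h : Z ⟶ X) (s : (O : Scheme.{u}) ⟶ Z) (hs : s ≫ h = O.ι)

theorem toAmbient_app (U : X.Opens) (u : Γ(X, U)) :
    toAmbient O h s hs U (h.app U u) = X.presheaf.map (homOfLE (inf_le_left : U ⊓ O ≤ U)).op u := by
  have e1 : h.app U ≫ s.appLE (h ⁻¹ᵁ U) (O.ι ⁻¹ᵁ U) (by rw [← Scheme.Hom.comp_preimage, hs]) =
      O.ι.appLE U (O.ι ⁻¹ᵁ U) le_rfl := by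
    rw [Scheme.Hom.app_eq_appLE, Scheme.Hom.appLE_comp_appLE]
    simp only [hs]
  have hle : O.ι ''ᵁ (O.ι ⁻¹ᵁ U) ≤ U := O.ι.image_preimage_le U
  have e2 : O.ι.appLE U (O.ι ⁻¹ᵁ U) le_rfl = X.presheaf.map (homOfLE hle).op ≫ (O.ι.appIso (O.ι ⁻¹ᵁ U)).hom := by
    rw [Scheme.Hom.appIso_hom', Scheme.Hom.map_appLE]
  show (h.app U ≫ toAmbient O h s hs U) u = _
  rw [toAmbient, reassoc_of% e1, e2, Category.assoc, Iso.hom_inv_id_assoc, ← Functor.map_comp]
  rfl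

theorem toAmbient_injective [IsSchemeTheoreticallyDominant s] [QuasiCompact s] (U : X.Opens) :
    Function.Injective (toAmbient O h s hs U) := by
  have he : O.ι ⁻¹ᵁ U = s ⁻¹ᵁ (h ⁻¹ᵁ U) := by rw [← Scheme.Hom.comp_preimage, hs]
  have h1 : ∀ (W : (O : Scheme.{u}).Opens) (e : W = s ⁻¹ᵁ (h ⁻¹ᵁ U)),
      Function.Injective (s.appLE (h ⁻¹ᵁ U) W e.le) := by
    rintro W rfl
    rw [← Scheme.Hom.app_eq_appLE]
    exact s.app_injective _
  have himg : O.ι ''ᵁ (O.ι ⁻¹ᵁ U) ≤ U ⊓ O := le_inf (O.ι.image_preimage_le U) (O.ι_image_le _)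
  intro a b hab
  refine h1 _ he ((ConcreteCategory.bijective_of_isIso (O.ι.appIso (O.ι ⁻¹ᵁ U)).inv).1 ?_)
  have := congrArg (X.presheaf.map (homOfLE himg).op) hab
  simp only [toAmbient, CommRingCat.comp_apply] at this
  rw [res_res', res_res'] at this
  simpa only [homOfLE_refl, op_id, CategoryTheory.Functor.map_id, CommRingCat.id_apply] using this

theorem toAmbient_map {U U' : X.Opens} (hU : U' ≤ U) (z : Γ(Z, h ⁻¹ᵁ U)) :
    toAmbient O h s hs U' (Z.presheaf.map (homOfLE (h.preimage_mono hU)).op z) =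
      X.presheaf.map (homOfLE (inf_le_inf_right O hU)).op (toAmbient O h s hs U z) := by
  show (Z.presheaf.map _ ≫ toAmbient O h s hs U') z = (toAmbient O h s hs U ≫ X.presheaf.map _) z
  rw [toAmbient, toAmbient, Scheme.Hom.map_appLE_assoc]
  have hpre : O.ι ⁻¹ᵁ U' ≤ O.ι ⁻¹ᵁ U := O.ι.preimage_mono hU
  rw [← Scheme.Hom.appLE_map s (show O.ι ⁻¹ᵁ U ≤ s ⁻¹ᵁ (h ⁻¹ᵁ U) by rw [← Scheme.Hom.comp_preimage, hs])
    (homOfLE hpre).op]
  simp only [Category.assoc, Scheme.Hom.appIso_inv_naturality_assoc, ← Functor.map_comp]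
  rfl

variable (g : X' ⟶ X) [IsFinite g] [Surjective g]

/-- A finite birational model on which the scaled norms of all functions are defined. -/
theorem exists_model [IsNoetherian X] [IsReduced X] {R : ℕ} (hR : IsMult g R) :
    ∃ (Z : Scheme.{u}) (h : Z ⟶ X) (_ : IsFinite h) (s : (freeLocus g : Scheme.{u}) ⟶ Z) (hs : s ≫ h = (freeLocus g).ι),
      IsReduced Z ∧ IsSchemeTheoreticallyDominant s ∧ QuasiCompact s ∧
      ∀ x : X, ∃ (D : X.Opens) (σ : Type u) (_ : Fintype σ) (y : σ → Γ(X', g ⁻¹ᵁ D))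
        (P : MvPolynomial σ Γ(Z, h ⁻¹ᵁ D)), x ∈ D ∧ IsAffineOpen D ∧
          (∀ a : Γ(X', g ⁻¹ᵁ D), ∃ r : σ → Γ(X, D), a = ∑ j, g.app D (r j) * y j) ∧
          MvPolynomial.constantCoeff P = 0 ∧
          ∀ (W : X.Opens) (hW : W ≤ D) (r : σ → Γ(X, W)),
            toAmbient (freeLocus g) h s hs W (MvPolynomial.eval (fun j => h.app W (r j))
              (MvPolynomial.map (Z.presheaf.map (homOfLE (h.preimage_mono hW)).op).hom P)) =
            normR R (∑ j, g.app W (r j) * X'.presheaf.map (homOfLE (g.preimage_mono hW)).op (y j)) := by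
  classical
  let O := freeLocus g
  haveI : CompactSpace (O : Scheme.{u}) := isCompact_iff_compactSpace.1 (NoetherianSpace.isCompact (O : Set X))
  haveI : QuasiCompact O.ι := quasiCompact_of_compactSpace O.ι
  let f := O.ι.fromNormalization
  obtain ⟨T, hT⟩ := isCompact_univ.elim_finite_subcover (fun W : X.affineOpens => ((W : X.Opens) : Set X))
    (fun W => (W : X.Opens).2) fun y _ => by
      obtain ⟨_, ⟨W, hW, rfl⟩, hy, -⟩ :=
        X.isBasis_affineOpens.exists_subset_of_mem_open (Set.mem_univ y) isOpen_univ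
      exact Set.mem_iUnion.2 ⟨⟨W, hW⟩, hy⟩
  have hgen : ∀ W : T, ∃ (n : ℕ) (y : ULift.{u} (Fin n) → Γ(X', g ⁻¹ᵁ W.1.1)), ∀ a : Γ(X', g ⁻¹ᵁ W.1.1),
      ∃ r : ULift.{u} (Fin n) → Γ(X, W.1.1), a = ∑ j, g.app W.1.1 (r j) * y j := fun W => by
    letI := alg g W.1.1
    haveI : Module.Finite Γ(X, W.1.1) Γ(X', g ⁻¹ᵁ W.1.1) := g.finite_app W.1.1 W.1.2
    obtain ⟨n, y, hy⟩ := Module.Finite.exists_fin (R := Γ(X, W.1.1)) (M := Γ(X', g ⁻¹ᵁ W.1.1))
    refine ⟨n, fun j => y j.down, fun a => ?_⟩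
    obtain ⟨r, hr⟩ := (Submodule.mem_span_range_iff_exists_fun _).1 (hy.ge (Submodule.mem_top (x := a)))
    refine ⟨fun j => r j.down, hr.symm.trans ?_⟩
    exact (Fintype.sum_equiv Equiv.ulift _ _ fun j => rfl).symm
  choose n y hy using hgen
  choose P hP0 hPint hPeval using fun W : T => exists_poly hR W.1.2 (y W)
  let κ := Σ W : T, {α // α ∈ (P W).support}
  have hle : ∀ U : X.Opens, O.ι ⁻¹ᵁ U ≤ O.ι ⁻¹ᵁ (U ⊓ O) := fun U => by
    rw [Scheme.Hom.preimage_inf, Scheme.Opens.ι_preimage_self, inf_top_eq]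
  have hsect : ∀ a : κ, ∃ t : Γ(O.ι.normalization, f ⁻¹ᵁ a.1.1.1),
      O.ι.toNormalization.appLE (f ⁻¹ᵁ a.1.1.1) (O.ι ⁻¹ᵁ a.1.1.1)
        (by rw [← Scheme.Hom.comp_preimage, Scheme.Hom.toNormalization_fromNormalization]) t =
      O.ι.appLE (a.1.1.1 ⊓ O) (O.ι ⁻¹ᵁ a.1.1.1) (hle _) ((P a.1).coeff a.2.1) := fun a => by
    letI := (O.ι.app a.1.1.1).hom.toAlgebra
    have hc : IsIntegral Γ(X, a.1.1.1) (O.ι.appLE (a.1.1.1 ⊓ O) (O.ι ⁻¹ᵁ a.1.1.1) (hle _) ((P a.1).coeff a.2.1)) := by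
      obtain ⟨q, hq, hq0⟩ := hPint a.1 a.2.1
      refine ⟨q, hq, ?_⟩
      have e : algebraMap Γ(X, a.1.1.1) Γ((O : Scheme.{u}), O.ι ⁻¹ᵁ a.1.1.1) =
          (O.ι.appLE (a.1.1.1 ⊓ O) (O.ι ⁻¹ᵁ a.1.1.1) (hle _)).hom.comp
            (X.presheaf.map (homOfLE inf_le_left).op).hom := by
        show (O.ι.app a.1.1.1).hom = _
        rw [← CommRingCat.hom_comp, Scheme.Hom.map_appLE, Scheme.Hom.app_eq_appLE]
      rw [e, ← Polynomial.hom_eval₂, hq0, map_zero]
    refine ⟨(O.ι.normalizationObjIso a.1.1.2).inv ⟨_, hc⟩, ?_⟩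
    rw [← O.ι.normalizationObjIso_hom_val a.1.1.2, CommRingCat.comp_apply, Iso.inv_hom_id_apply]
    rfl
  choose t ht using hsect
  haveI : IsAffineHom f := inferInstance
  obtain ⟨Z, fQ, h, L, ε, hdom, hprop, hfQ, hL, hloc, hcoef⟩ :=
    YBlowLib.exists_completion f (fun a : κ => a.1.1.1) (fun a => a.1.1.2) t
  haveI := hdom
  haveI := hprop
  haveI : UniversallyClosed (fQ ≫ h) := by rw [hfQ]; infer_instance
  haveI : QuasiCompact (fQ ≫ h) := inferInstance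
  haveI : QuasiCompact fQ := QuasiCompact.of_comp fQ h
  haveI : UniversallyClosed fQ := UniversallyClosed.of_comp_of_isSeparated fQ h
  have hLi := AmpleLib.isInvertible_of_isRelAmple hL
  have hsurj : ∀ z : Z, ∃ w, fQ w = z := fun z => by
    have h1 : Dense (Set.range fQ) := (inferInstance : IsDominant fQ).denseRange
    exact fQ.isClosedMap.isClosed_range.closure_eq.le (h1.closure_eq.ge (Set.mem_univ z))
  have hlocus : CohB1.genLocus L ε = ⊤ := eq_top_iff.2 fun z _ => by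
    obtain ⟨w, rfl⟩ := hsurj z
    exact hloc.ge (show w ∈ (⊤ : O.ι.normalization.Opens) from trivial)
  haveI : IsIntegralHom (fQ ≫ h) := by rw [hfQ]; exact inferInstanceAs (IsIntegralHom O.ι.fromNormalization)
  haveI : IsIntegralHom fQ := IsIntegralHom.of_comp fQ h
  haveI : Surjective fQ := ⟨hsurj⟩
  haveI : IsAffineHom h := ⟨fun W hW => by
    haveI : IsAffineHom (fQ ≫ h) := inferInstance
    haveI : IsAffine ((fQ ⁻¹ᵁ (h ⁻¹ᵁ W) : O.ι.normalization.Opens) : Scheme.{u}) := hW.preimage (fQ ≫ h)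
    haveI : UniversallyClosed (fQ ∣_ h ⁻¹ᵁ W) := inferInstance
    haveI : Surjective (fQ ∣_ h ⁻¹ᵁ W) :=
      MorphismProperty.of_isPullback (P := @Surjective) (isPullback_morphismRestrict fQ (h ⁻¹ᵁ W)).flip ‹Surjective fQ›
    exact S0593.result _ _ (fQ ∣_ h ⁻¹ᵁ W)⟩
  haveI : IsFinite h := IsFinite.iff_isProper_and_isAffineHom.2 ⟨inferInstance, inferInstance⟩
  let s := O.ι.toNormalization ≫ fQ
  haveI : IsSchemeTheoreticallyDominant O.ι.toNormalization := ⟨O.ι.ker_toNormalization⟩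
  haveI : IsSchemeTheoreticallyDominant s := inferInstance
  haveI : QuasiCompact s := inferInstance
  have hs : s ≫ h = O.ι := by
    show (O.ι.toNormalization ≫ fQ) ≫ h = O.ι
    rw [Category.assoc, hfQ, Scheme.Hom.toNormalization_fromNormalization]
  refine ⟨Z, h, inferInstance, s, hs, SchDenseLib.isReduced_of_reduced_source s, inferInstance, inferInstance,
    fun x => ?_⟩
  obtain ⟨W, hWT, hxW⟩ := Set.mem_iUnion₂.1 (hT (Set.mem_univ x))
  let W' : T := ⟨W, hWT⟩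
  have hrange : ∀ α ∈ (P W').support, ∃ c : Γ(Z, h ⁻¹ᵁ W.1), toAmbient O h s hs W.1 c = (P W').coeff α := by
    intro α hα
    obtain ⟨c, e, hce⟩ := hcoef ⟨W', α, hα⟩
    have hle' : h ⁻¹ᵁ W.1 ≤ CohB1.genLocus L ε ⊓ h ⁻¹ᵁ W.1 := by rw [hlocus, top_inf_eq]
    refine ⟨Z.presheaf.map (homOfLE hle').op c, ?_⟩
    have e2 : s.appLE (h ⁻¹ᵁ W.1) (O.ι ⁻¹ᵁ W.1) (by rw [← Scheme.Hom.comp_preimage, hs])
        (Z.presheaf.map (homOfLE hle').op c) = O.ι.appLE (W.1 ⊓ O) (O.ι ⁻¹ᵁ W.1) (hle _) ((P W').coeff α) := by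
      rw [← ht ⟨W', α, hα⟩, ← hce, ← CommRingCat.comp_apply, Scheme.Hom.map_appLE, ← CommRingCat.comp_apply,
        Scheme.Hom.appLE_comp_appLE]
    rw [toAmbient, CommRingCat.comp_apply, e2]
    have hle2 : O.ι ''ᵁ (O.ι ⁻¹ᵁ W.1) ≤ W.1 ⊓ O := le_inf (O.ι.image_preimage_le _) (O.ι_image_le _)
    have e3 : O.ι.appLE (W.1 ⊓ O) (O.ι ⁻¹ᵁ W.1) (hle _) =
        X.presheaf.map (homOfLE hle2).op ≫ (O.ι.appIso (O.ι ⁻¹ᵁ W.1)).hom := by
      rw [Scheme.Hom.appIso_hom', Scheme.Hom.map_appLE]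
    rw [e3]
    show ((X.presheaf.map _ ≫ (O.ι.appIso _).hom) ≫ (O.ι.appIso _).inv ≫ X.presheaf.map _) _ = _
    rw [Category.assoc, Iso.hom_inv_id_assoc, ← Functor.map_comp]
    exact ConcreteCategory.congr_hom (X.presheaf.map_id _) _
  choose c hc using hrange
  let Q : MvPolynomial (ULift.{u} (Fin (n W'))) Γ(Z, h ⁻¹ᵁ W.1) :=
    ∑ α ∈ (P W').support.attach, MvPolynomial.monomial α.1 (c α.1 α.2)
  have hmap : MvPolynomial.map (toAmbient O h s hs W.1).hom Q = P W' := by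
    simp only [Q, map_sum, MvPolynomial.map_monomial]
    conv_rhs => rw [← (P W').support_sum_monomial_coeff, ← Finset.sum_attach]
    refine Finset.sum_congr rfl fun α _ => ?_
    exact congrArg (MvPolynomial.monomial α.1) (hc α.1 α.2)
  refine ⟨W.1, ULift.{u} (Fin (n W')), inferInstance, y W', Q, hxW, W.2, hy W', ?_, fun U hU r => ?_⟩
  · refine toAmbient_injective O h s hs W.1 ?_
    rw [map_zero]
    refine Eq.trans ?_ (hP0 W')
    rw [← hmap, MvPolynomial.constantCoeff_map]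
  · refine Eq.trans ?_ (hPeval W' U hU r).symm
    show (toAmbient O h s hs U).hom (MvPolynomial.eval _ (MvPolynomial.map _ Q)) = _
    rw [MvPolynomial.map_eval, MvPolynomial.map_map, ← hmap, MvPolynomial.map_map]
    refine congrArg₂ (fun v P => MvPolynomial.eval v P) (funext fun j => ?_) (congrArg (MvPolynomial.map · Q) ?_)
    · exact toAmbient_app O h s hs U (r j)
    · exact RingHom.ext fun z => toAmbient_map O h s hs hU z

end Groth.Agent.FinModelLib
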