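import Groth.Agent.FinModelLib.Poly
import Groth.Agent.NormAmpleLib.NormalNorm

/-!
# Norms on the free locus of a finite surjection onto a reduced Noetherian scheme
-/

set_option autoImplicit false
set_option linter.style.haveILetI false
set_option backward.isDefEq.respectTransparency false
set_option maxHeartbeats 1000000

universe u

open CategoryTheory CategoryTheory.Limits AlgebraicGeometry TopologicalSpace Opposite
open Groth.Agent.NormAmpleLib

noncomputable section

namespace Groth.Agent.FinModelLib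

variable {X X' : Scheme.{u}} (g : X' ⟶ X)

/-- An affine open with free functions upstairs. -/
structure NAff : Type u where
  /-- The open. -/
  V : X.Opens
  /-- The rank. -/
  d : ℕ
  aff : IsAffineOpen V
  nice : Nice g V d

/-- The free locus. -/
def freeLocus : X.Opens := ⨆ v : NAff g, v.V

variable {g}

theorem NAff.le (v : NAff g) : v.V ≤ freeLocus g := le_iSup (fun v : NAff g => v.V) v

theorem NAff.exists_sub [IsAffineHom g] (v : NAff g) {U : X.Opens} {x : X} (hx : x ∈ v.V) (hxU : x ∈ U) :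
    ∃ f : Γ(X, v.V), X.basicOpen f ≤ U ∧ x ∈ X.basicOpen f ∧ Nice g (X.basicOpen f) v.d := by
  obtain ⟨f, hf, hxf⟩ := v.aff.exists_basicOpen_le (V := U) ⟨x, hxU⟩ hx
  exact ⟨f, hf, hxf, (nice_res v.aff v.nice f rfl (X.basicOpen_le f)).1⟩

theorem exists_naff_mem [IsAffineHom g] {U : X.Opens} {x : X} (hx : x ∈ U) (hx₀ : x ∈ freeLocus g) :
    ∃ v : NAff g, x ∈ v.V ∧ v.V ≤ U := by
  obtain ⟨v, hv⟩ := Opens.mem_iSup.1 hx₀
  obtain ⟨f, hf, hxf, hn⟩ := v.exists_sub hv hx
  exact ⟨⟨X.basicOpen f, v.d, v.aff.basicOpen f, hn⟩, hxf, hf⟩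

variable (g) in
theorem dense_freeLocus [IsNoetherian X] [IsReduced X] [IsFinite g] : Dense (freeLocus g : Set X) := by
  rw [dense_iff_inter_open]
  rintro U hU ⟨x, hx⟩
  obtain ⟨W, d, y, hy, hWU, hW, hn⟩ := exists_nice_in (g := g) (U := ⟨U, hU⟩) hx
  exact ⟨y, hWU hy, (NAff.mk W d hW hn).le hy⟩

variable (g) in
/-- A positive multiple of all the ranks. -/
def IsMult (R : ℕ) : Prop := 0 < R ∧ ∀ (v : NAff g) (x : X), x ∈ v.V → v.d ∣ R

variable (g) in
theorem exists_isMult [IsNoetherian X] [IsFinite g] [Surjective g] : ∃ R, IsMult g R := by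
  classical
  obtain ⟨T, hT⟩ := (NoetherianSpace.isCompact (freeLocus g : Set X)).elim_finite_subcover
    (fun v : {v : NAff g // ∃ x, x ∈ v.V} => (v.1.V : Set X)) (fun v => v.1.V.2) fun x hx => by
      obtain ⟨v, hv⟩ := Opens.mem_iSup.1 hx
      exact Set.mem_iUnion.2 ⟨⟨v, x, hv⟩, hv⟩
  refine ⟨∏ v ∈ T, v.1.d, Finset.prod_pos fun v _ => v.2.elim fun x hx => nice_pos v.1.nice hx, fun v x hx => ?_⟩
  obtain ⟨w, hwT, hxw⟩ := Set.mem_iUnion₂.1 (hT (v.le hx))
  obtain ⟨f, f', hff, hxf⟩ := exists_basicOpen_le_affine_inter v.aff w.1.aff x ⟨hx, hxw⟩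
  have h1 := (nice_res v.aff v.nice f rfl (X.basicOpen_le f)).1
  have h2 := (nice_res w.1.aff w.1.nice f' hff (hff.le.trans (X.basicOpen_le f'))).1
  rw [nice_unique h1 h2 hxf]
  exact Finset.dvd_prod_of_mem (fun v : {v : NAff g // ∃ x, x ∈ v.V} => v.1.d) hwT

theorem ext_naff [IsAffineHom g] {U : X.Opens} (hU : U ≤ freeLocus g) {a b : Γ(X, U)}
    (h : ∀ (v : NAff g) (hv : v.V ≤ U), X.presheaf.map (homOfLE hv).op a = X.presheaf.map (homOfLE hv).op b) :
    a = b := by
  refine TopCat.Presheaf.section_ext X.sheaf U _ _ fun x hx => ?_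
  obtain ⟨v, hxv, hv⟩ := exists_naff_mem hx (hU hx)
  have := congrArg (X.presheaf.germ v.V x hxv) (h v hv)
  rwa [TopCat.Presheaf.germ_res_apply, TopCat.Presheaf.germ_res_apply] at this

/-- Compatible functions on the affine opens of the free locus glue. -/
theorem exists_glue [IsAffineHom g] {U : X.Opens} (hU : U ≤ freeLocus g)
    (c : ∀ v : NAff g, v.V ≤ U → Γ(X, v.V))
    (hc : ∀ (v w : NAff g) (hv : v.V ≤ U) (hw : w.V ≤ U) (x : X) (hxv : x ∈ v.V) (hxw : x ∈ w.V),
      X.presheaf.germ v.V x hxv (c v hv) = X.presheaf.germ w.V x hxw (c w hw)) :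
    ∃ c₀ : Γ(X, U), ∀ (v : NAff g) (hv : v.V ≤ U), X.presheaf.map (homOfLE hv).op c₀ = c v hv := by
  obtain ⟨c₀, hc₀, -⟩ := X.sheaf.existsUnique_gluing' (fun v : {v : NAff g // v.V ≤ U} => v.1.V) U
    (fun v => homOfLE v.2) (fun x hx => by
      obtain ⟨v, hxv, hv⟩ := exists_naff_mem hx (hU hx)
      exact Opens.mem_iSup.2 ⟨⟨v, hv⟩, hxv⟩)
    (fun v => c v.1 v.2) fun v w => by
      refine TopCat.Presheaf.section_ext X.sheaf _ _ _ fun x hx => ?_
      erw [TopCat.Presheaf.germ_res_apply, TopCat.Presheaf.germ_res_apply]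
      exact hc v.1 w.1 v.2 w.2 x _ _
  exact ⟨c₀, fun v hv => hc₀ ⟨v, hv⟩⟩

variable [IsFinite g] [Surjective g] {R : ℕ}

theorem res_app {U V : X.Opens} (h : V ≤ U) (u : Γ(X, U)) :
    X'.presheaf.map (homOfLE (g.preimage_mono h)).op (g.app U u) = g.app V (X.presheaf.map (homOfLE h).op u) :=
  (ConcreteCategory.congr_hom (g.naturality (homOfLE h).op) u).symm

theorem exists_normR {U : X.Opens} (a : Γ(X', g ⁻¹ᵁ U)) (R : ℕ) :
    ∃ c : Γ(X, U ⊓ freeLocus g), ∀ (v : NAff g) (hv : v.V ≤ U ⊓ freeLocus g),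
      X.presheaf.map (homOfLE hv).op c =
        nrm g v.V (X'.presheaf.map (homOfLE (g.preimage_mono (hv.trans inf_le_left))).op a) ^ (R / v.d) :=
  exists_glue inf_le_right
    (fun v hv => nrm g v.V (X'.presheaf.map (homOfLE (g.preimage_mono (hv.trans inf_le_left))).op a) ^ (R / v.d))
    fun v w hv hw x hxv hxw => by
      obtain ⟨hd, Z, hZ, hZ', hxZ, e⟩ := exists_nrm_overlap v.aff w.aff v.nice w.nice hxv hxw
        (hv.trans inf_le_left) (hw.trans inf_le_left) a
      have := congrArg (X.presheaf.germ Z x hxZ) e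
      rw [TopCat.Presheaf.germ_res_apply, TopCat.Presheaf.germ_res_apply] at this
      rw [map_pow, map_pow, hd, this]

/-- The scaled norm, on the free locus. -/
def normR (R : ℕ) {U : X.Opens} (a : Γ(X', g ⁻¹ᵁ U)) : Γ(X, U ⊓ freeLocus g) := (exists_normR a R).choose

theorem normR_res {U : X.Opens} (a : Γ(X', g ⁻¹ᵁ U)) (v : NAff g) (hv : v.V ≤ U ⊓ freeLocus g) :
    X.presheaf.map (homOfLE hv).op (normR R a) =
      nrm g v.V (X'.presheaf.map (homOfLE (g.preimage_mono (hv.trans inf_le_left))).op a) ^ (R / v.d) :=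
  (exists_normR a R).choose_spec v hv

theorem normR_mul {U : X.Opens} (a b : Γ(X', g ⁻¹ᵁ U)) : normR R (a * b) = normR R a * normR R b :=
  ext_naff (g := g) inf_le_right fun v hv => by
    rw [map_mul, normR_res, normR_res, normR_res, map_mul, map_mul, mul_pow]

theorem normR_one (U : X.Opens) : normR R (1 : Γ(X', g ⁻¹ᵁ U)) = 1 :=
  ext_naff (g := g) inf_le_right fun v hv => by
    rw [normR_res, map_one, map_one, map_one, one_pow]

theorem normR_pow {U : X.Opens} (a : Γ(X', g ⁻¹ᵁ U)) : ∀ k : ℕ, normR R (a ^ k) = normR R a ^ k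
  | 0 => by rw [pow_zero, pow_zero, normR_one]
  | k + 1 => by rw [pow_succ, pow_succ, normR_mul, normR_pow a k]

theorem normR_app (hR : IsMult g R) {U : X.Opens} (u : Γ(X, U)) :
    normR R (g.app U u) = X.presheaf.map (homOfLE inf_le_left).op u ^ R :=
  ext_naff (g := g) inf_le_right fun v hv => by
    rw [normR_res, map_pow, res_res', res_app, nrm_app v.nice, ← pow_mul]
    rcases Classical.em (∃ x, x ∈ v.V) with ⟨x, hx⟩ | hempty
    · rw [Nat.mul_div_cancel' (hR.2 v x hx)]
    · exact TopCat.Presheaf.section_ext X.sheaf v.V _ _ fun x hx => absurd ⟨x, hx⟩ hempty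

theorem normR_map {U U' : X.Opens} (h : U' ≤ U) (a : Γ(X', g ⁻¹ᵁ U)) :
    normR R (X'.presheaf.map (homOfLE (g.preimage_mono h)).op a) =
      X.presheaf.map (homOfLE (inf_le_inf_right (freeLocus g) h)).op (normR R a) :=
  ext_naff (g := g) inf_le_right fun v hv => by
    rw [normR_res, res_res', res_res', normR_res]

/-- The norm polynomial on a piece. -/
def piece (R : ℕ) {D : X.Opens} {σ : Type u} [Fintype σ] (y : σ → Γ(X', g ⁻¹ᵁ D)) (v : NAff g) (hv : v.V ≤ D) :
    MvPolynomial σ Γ(X, v.V) :=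
  letI := alg g v.V
  polyNorm Γ(X, v.V) (fun j => X'.presheaf.map (homOfLE (g.preimage_mono hv)).op (y j)) ^ (R / v.d)

theorem map_piece {D : X.Opens} {σ : Type u} [Fintype σ] (y : σ → Γ(X', g ⁻¹ᵁ D)) (v : NAff g) (hv : v.V ≤ D)
    (f : Γ(X, v.V)) {W : X.Opens} (hW : W = X.basicOpen f) (hWv : W ≤ v.V) :
    MvPolynomial.map (X.presheaf.map (homOfLE hWv).op).hom (piece R y v hv) =
      letI := alg g W
      polyNorm Γ(X, W) (fun j => X'.presheaf.map (homOfLE (g.preimage_mono (hWv.trans hv))).op (y j)) ^ (R / v.d) := by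
  let D' := v.V
  have hW' : g ⁻¹ᵁ W = X'.basicOpen (g.app D' f) := by rw [hW, Scheme.preimage_basicOpen]
  letI := alg g D'
  letI := alg g W
  letI : Algebra Γ(X, D') Γ(X, W) := (X.presheaf.map (homOfLE hWv).op).hom.toAlgebra
  letI : Algebra Γ(X', g ⁻¹ᵁ D') Γ(X', g ⁻¹ᵁ W) := (X'.presheaf.map (homOfLE (g.preimage_mono hWv)).op).hom.toAlgebra
  letI : Algebra Γ(X, D') Γ(X', g ⁻¹ᵁ W) :=
    ((X'.presheaf.map (homOfLE (g.preimage_mono hWv)).op).hom.comp (g.app D').hom).toAlgebra
  haveI : IsScalarTower Γ(X, D') Γ(X', g ⁻¹ᵁ D') Γ(X', g ⁻¹ᵁ W) := .of_algebraMap_eq fun _ => rfl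
  haveI : IsScalarTower Γ(X, D') Γ(X, W) Γ(X', g ⁻¹ᵁ W) := .of_algebraMap_eq fun r =>
    (ConcreteCategory.congr_hom (g.naturality (homOfLE hWv).op) r).symm
  haveI : IsLocalization.Away f Γ(X, W) := v.aff.isLocalization_of_eq_basicOpen f (homOfLE hWv) hW
  haveI : IsLocalization.Away (g.app D' f) Γ(X', g ⁻¹ᵁ W) :=
    (v.aff.preimage g).isLocalization_of_eq_basicOpen _ (homOfLE (g.preimage_mono hWv)) hW'
  haveI : IsLocalization (Algebra.algebraMapSubmonoid Γ(X', g ⁻¹ᵁ D') (Submonoid.powers f)) Γ(X', g ⁻¹ᵁ W) := by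
    rw [Algebra.algebraMapSubmonoid, Submonoid.map_powers]
    assumption
  obtain ⟨b⟩ := v.nice
  rw [piece, map_pow]
  refine congrArg (· ^ _) ?_
  refine (map_polyNorm (X.presheaf.map (homOfLE hWv).op).hom
    (X'.presheaf.map (homOfLE (g.preimage_mono hWv)).op).hom
    (fun r => (ConcreteCategory.congr_hom (g.naturality (homOfLE hWv).op) r).symm) b
    (b.localizationLocalization Γ(X, W) (Submonoid.powers f) Γ(X', g ⁻¹ᵁ W))
    (fun i => b.localizationLocalization_apply _ _ _ i) _).trans ?_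
  exact congrArg _ (funext fun j => res_res' X' _ _ _)

/-- The norm of a combination of finitely many functions is a polynomial with integral coefficients. -/
theorem exists_poly [IsNoetherian X] [IsReduced X] (hR : IsMult g R) {D : X.Opens} (hD : IsAffineOpen D)
    {σ : Type u} [Fintype σ] (y : σ → Γ(X', g ⁻¹ᵁ D)) :
    ∃ P : MvPolynomial σ Γ(X, D ⊓ freeLocus g), MvPolynomial.constantCoeff P = 0 ∧
      (∀ α, (X.presheaf.map (homOfLE (inf_le_left : D ⊓ freeLocus g ≤ D)).op).hom.IsIntegralElem (P.coeff α)) ∧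
      ∀ (W : X.Opens) (hW : W ≤ D) (r : σ → Γ(X, W)),
        normR R (∑ j, g.app W (r j) * X'.presheaf.map (homOfLE (g.preimage_mono hW)).op (y j)) =
          MvPolynomial.eval (fun j => X.presheaf.map (homOfLE inf_le_left).op (r j))
            (MvPolynomial.map (X.presheaf.map (homOfLE (inf_le_inf_right (freeLocus g) hW)).op).hom P) := by
  classical
  let U := D ⊓ freeLocus g
  have hcompat : ∀ (v w : NAff g) (hv : v.V ≤ U) (hw : w.V ≤ U) (x : X) (hxv : x ∈ v.V) (hxw : x ∈ w.V) (α : σ →₀ ℕ),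
      X.presheaf.germ v.V x hxv ((piece R y v (hv.trans inf_le_left)).coeff α) =
        X.presheaf.germ w.V x hxw ((piece R y w (hw.trans inf_le_left)).coeff α) := by
    intro v w hv hw x hxv hxw α
    obtain ⟨f, f', hff, hxf⟩ := exists_basicOpen_le_affine_inter v.aff w.aff x ⟨hxv, hxw⟩
    have hWv : X.basicOpen f ≤ v.V := X.basicOpen_le f
    have hWw : X.basicOpen f ≤ w.V := hff.le.trans (X.basicOpen_le f')
    have h1 := (nice_res v.aff v.nice f rfl hWv).1
    have h2 := (nice_res w.aff w.nice f' hff hWw).1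
    have e1 := map_piece (R := R) y v (hv.trans inf_le_left) f rfl hWv
    have e2 := map_piece (R := R) y w (hw.trans inf_le_left) f' hff hWw
    rw [← nice_unique h1 h2 hxf, ← e1] at e2
    have e3 := congrArg (fun P => X.presheaf.germ _ x hxf (P.coeff α)) e2
    simp only [MvPolynomial.coeff_map] at e3
    erw [TopCat.Presheaf.germ_res_apply, TopCat.Presheaf.germ_res_apply] at e3
    exact e3.symm
  choose c hc using fun α : σ →₀ ℕ => exists_glue (g := g) (U := U) inf_le_right
    (fun v hv => (piece R y v (hv.trans inf_le_left)).coeff α) fun v w hv hw x hxv hxw => hcompat v w hv hw x hxv hxw α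
  obtain ⟨T, hT⟩ := (NoetherianSpace.isCompact (U : Set X)).elim_finite_subcover
    (fun v : {v : NAff g // v.V ≤ U} => (v.1.V : Set X)) (fun v => v.1.V.2) fun x hx => by
      obtain ⟨v, hxv, hv⟩ := exists_naff_mem hx hx.2
      exact Set.mem_iUnion.2 ⟨⟨v, hv⟩, hxv⟩
  let S := T.biUnion fun v => (piece R y v.1 (v.2.trans inf_le_left)).support
  have hzero : ∀ α ∉ S, c α = 0 := fun α hα => by
    refine TopCat.Presheaf.section_ext X.sheaf U _ _ fun x hx => ?_
    obtain ⟨v, hvT, hxv⟩ := Set.mem_iUnion₂.1 (hT hx)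
    have h0 : (piece R y v.1 (v.2.trans inf_le_left)).coeff α = 0 :=
      MvPolynomial.notMem_support_iff.1 fun h => hα (Finset.mem_biUnion.2 ⟨v, hvT, h⟩)
    have e := congrArg (X.presheaf.germ v.1.V x hxv) ((hc α v.1 v.2).trans h0)
    rw [TopCat.Presheaf.germ_res_apply, map_zero] at e
    exact e.trans (map_zero _).symm
  let P : MvPolynomial σ Γ(X, U) := ∑ α ∈ S, MvPolynomial.monomial α (c α)
  have hcoef : ∀ α, P.coeff α = c α := fun α => by
    simp only [P, MvPolynomial.coeff_sum, MvPolynomial.coeff_monomial]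
    rw [Finset.sum_ite_eq']
    split_ifs with h
    · rfl
    · exact (hzero α h).symm
  have hmap : ∀ (v : NAff g) (hv : v.V ≤ U),
      MvPolynomial.map (X.presheaf.map (homOfLE hv).op).hom P = piece R y v (hv.trans inf_le_left) := fun v hv => by
    refine MvPolynomial.ext _ _ fun α => ?_
    rw [MvPolynomial.coeff_map, hcoef]
    exact hc α v hv
  refine ⟨P, ?_, fun α => ?_, fun W hW r => ext_naff (g := g) inf_le_right fun v hv => ?_⟩
  · refine ext_naff (g := g) inf_le_right fun v hv => ?_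
    rw [map_zero, MvPolynomial.constantCoeff_eq, ← MvPolynomial.coeff_map, hmap v hv, ← MvPolynomial.constantCoeff_eq]
    rcases Classical.em (∃ x, x ∈ v.V) with ⟨x, hx⟩ | hempty
    · letI := alg g v.V
      obtain ⟨b⟩ := v.nice
      have hd : 0 < v.d := nice_pos v.nice hx
      rw [piece, map_pow, constantCoeff_polyNorm b _ hd, zero_pow]
      exact (Nat.div_pos (Nat.le_of_dvd hR.1 (hR.2 v x hx)) hd).ne'
    · exact TopCat.Presheaf.section_ext X.sheaf v.V _ _ fun x hx => absurd ⟨x, hx⟩ hempty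
  · rw [hcoef]
    have hloc : ∀ v : {v : NAff g // v.V ≤ U}, ∃ q : Polynomial Γ(X, D), q.Monic ∧
        Polynomial.eval₂ (X.presheaf.map (homOfLE (v.2.trans inf_le_left)).op).hom
          ((piece R y v.1 (v.2.trans inf_le_left)).coeff α) q = 0 := fun v => by
      let A := Γ(X, D)
      let hVD : v.1.V ≤ D := v.2.trans inf_le_left
      letI := alg g v.1.V
      letI : Algebra A Γ(X, v.1.V) := (X.presheaf.map (homOfLE hVD).op).hom.toAlgebra
      letI : Algebra A Γ(X', g ⁻¹ᵁ v.1.V) :=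
        ((g.app v.1.V).hom.comp (X.presheaf.map (homOfLE hVD).op).hom).toAlgebra
      haveI : IsScalarTower A Γ(X, v.1.V) Γ(X', g ⁻¹ᵁ v.1.V) := .of_algebraMap_eq fun _ => rfl
      haveI : IsNoetherianRing Γ(X, v.1.V) := IsLocallyNoetherian.component_noetherian ⟨v.1.V, v.1.aff⟩
      obtain ⟨b⟩ := v.1.nice
      have hy : ∀ j, IsIntegral A (X'.presheaf.map (homOfLE (g.preimage_mono hVD)).op (y j)) := fun j => by
        have hfin := g.finite_app D hD
        obtain ⟨q, hq, hq0⟩ := hfin.to_isIntegral (y j)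
        refine ⟨q, hq, ?_⟩
        have e : (algebraMap A Γ(X', g ⁻¹ᵁ v.1.V)) =
            (X'.presheaf.map (homOfLE (g.preimage_mono hVD)).op).hom.comp (g.app D).hom := RingHom.ext fun r =>
          ConcreteCategory.congr_hom (g.naturality (homOfLE hVD).op) r
        rw [e, ← Polynomial.hom_eval₂, hq0, map_zero]
      have hp : ∀ (k : ℕ) (β : σ →₀ ℕ), IsIntegral A
          ((polyNorm Γ(X, v.1.V) (fun j => X'.presheaf.map (homOfLE (g.preimage_mono hVD)).op (y j)) ^ k).coeff β) := by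
        intro k
        induction k with
        | zero =>
          intro β
          rw [pow_zero, MvPolynomial.coeff_one]
          split_ifs
          · exact isIntegral_one
          · exact isIntegral_zero
        | succ k ih =>
          intro β
          rw [pow_succ, MvPolynomial.coeff_mul]
          exact IsIntegral.sum _ fun z _ => (ih z.1).mul (isIntegral_coeff_polyNorm b _ hy z.2)
      exact hp _ α
    choose q hq hq0 using hloc
    refine ⟨∏ v ∈ T, q v, Polynomial.monic_prod_of_monic _ _ fun v _ => hq v, ?_⟩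
    refine TopCat.Presheaf.section_ext X.sheaf U _ _ fun x hx => ?_
    obtain ⟨v, hvT, hxv⟩ := Set.mem_iUnion₂.1 (hT hx)
    show X.presheaf.germ U x hx _ = X.presheaf.germ U x hx _
    rw [map_zero, ← TopCat.Presheaf.germ_res_apply X.presheaf (homOfLE v.2) x hxv]
    refine Eq.trans (congrArg (X.presheaf.germ v.1.V x hxv) ?_) (map_zero _)
    rw [Polynomial.hom_eval₂, hc α v.1 v.2]
    have e : (X.presheaf.map (homOfLE v.2).op).hom.comp (X.presheaf.map (homOfLE inf_le_left).op).hom =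
        (X.presheaf.map (homOfLE (v.2.trans inf_le_left)).op).hom := RingHom.ext fun r => res_res' X _ _ r
    rw [e, Polynomial.eval₂_finsetProd]
    exact Finset.prod_eq_zero hvT (hq0 v)
  · rw [normR_res, MvPolynomial.map_eval, MvPolynomial.map_map]
    have hvU : v.V ≤ U := hv.trans (inf_le_inf_right _ hW)
    have e : (X.presheaf.map (homOfLE hv).op).hom.comp
        (X.presheaf.map (homOfLE (inf_le_inf_right (freeLocus g) hW)).op).hom =
        (X.presheaf.map (homOfLE hvU).op).hom := RingHom.ext fun r => res_res' X _ _ r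
    rw [e, hmap v hvU]
    letI := alg g v.V
    obtain ⟨b⟩ := v.nice
    rw [piece, map_pow, eval_polyNorm b]
    refine congrArg (· ^ _) (congrArg (Algebra.norm Γ(X, v.V)) ?_)
    rw [map_sum]
    refine Finset.sum_congr rfl fun j _ => ?_
    rw [map_mul, Algebra.smul_def, res_app, Function.comp_apply, res_res', res_res']
    rfl

end Groth.Agent.FinModelLib
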