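import Mathlib
import Groth.Agent.NormAmpleLib.NormalAlg

/-!
# The norm of the general combination of finitely many elements
-/

set_option autoImplicit false
set_option linter.style.haveILetI false

universe u

open scoped TensorProduct
open MvPolynomial

noncomputable section

namespace Groth.Agent.FinModelLib

variable (R : Type u) {B : Type u} [CommRing R] [CommRing B] [Algebra R B] {σ : Type u} [Fintype σ]

/-- `N(∑ Tⱼ yⱼ)` as a polynomial in the `Tⱼ`. -/
def polyNorm (y : σ → B) : MvPolynomial σ R :=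
  Algebra.norm (MvPolynomial σ R) (∑ j, (X j : MvPolynomial σ R) ⊗ₜ[R] y j)

variable {R} {d : ℕ}

theorem leftMulMatrix_basis_tmul (b : Module.Basis (Fin d) R B) (p : MvPolynomial σ R) (y : B) :
    Algebra.leftMulMatrix (Algebra.TensorProduct.basis (MvPolynomial σ R) b) (p ⊗ₜ[R] y) =
      p • (Algebra.leftMulMatrix b y).map C := by
  ext i j
  rw [Algebra.leftMulMatrix_eq_repr_mul, Algebra.TensorProduct.basis_apply, Algebra.TensorProduct.tmul_mul_tmul,
    mul_one, Algebra.TensorProduct.basis_repr_tmul, Matrix.smul_apply, Matrix.map_apply,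
    Algebra.leftMulMatrix_eq_repr_mul]
  rfl

theorem polyNorm_eq_det (b : Module.Basis (Fin d) R B) (y : σ → B) :
    polyNorm R y = Matrix.det (∑ j, (X j : MvPolynomial σ R) • (Algebra.leftMulMatrix b (y j)).map C) := by
  rw [polyNorm, Algebra.norm_eq_matrix_det (Algebra.TensorProduct.basis (MvPolynomial σ R) b), map_sum]
  simp only [leftMulMatrix_basis_tmul]

theorem eval_polyNorm (b : Module.Basis (Fin d) R B) (y : σ → B) (r : σ → R) :
    MvPolynomial.eval r (polyNorm R y) = Algebra.norm R (∑ j, r j • y j) := by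
  rw [polyNorm_eq_det b, RingHom.map_det, map_sum, Algebra.norm_eq_matrix_det b, map_sum]
  congr 1
  refine Finset.sum_congr rfl fun j _ => ?_
  ext i k
  simp [Matrix.map_apply]

theorem constantCoeff_polyNorm (b : Module.Basis (Fin d) R B) (y : σ → B) (hd : 0 < d) :
    constantCoeff (polyNorm R y) = 0 := by
  have h : MvPolynomial.eval (0 : σ → R) (polyNorm R y) = 0 := by
    rw [eval_polyNorm b, Algebra.norm_eq_matrix_det b]
    simp only [Pi.zero_apply, zero_smul, Finset.sum_const_zero, map_zero]
    haveI : Nonempty (Fin d) := ⟨⟨0, hd⟩⟩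
    exact Matrix.det_zero
  rwa [MvPolynomial.eval_zero] at h

theorem map_polyNorm {R' B' : Type u} [CommRing R'] [CommRing B'] [Algebra R' B'] (φ : R →+* R') (ψ : B →+* B')
    (hφψ : ∀ r, ψ (algebraMap R B r) = algebraMap R' B' (φ r))
    (b : Module.Basis (Fin d) R B) (b' : Module.Basis (Fin d) R' B') (hb : ∀ i, b' i = ψ (b i)) (y : σ → B) :
    MvPolynomial.map φ (polyNorm R y) = polyNorm R' (ψ ∘ y) := by
  have key : ∀ (z : B) (i : Fin d), b'.repr (ψ z) i = φ (b.repr z i) := by
    intro z i
    conv_lhs => rw [← b.sum_repr z, map_sum]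
    simp only [Algebra.smul_def, map_mul, hφψ, ← hb]
    simp only [← Algebra.smul_def, b'.repr_sum_self]
  rw [polyNorm_eq_det b, polyNorm_eq_det b', RingHom.map_det, map_sum]
  congr 1
  refine Finset.sum_congr rfl fun j _ => ?_
  ext i k
  simp [Matrix.map_apply, Algebra.leftMulMatrix_eq_repr_mul, ← key, hb]

/-- An element integral in the residue field of every minimal prime of a reduced Noetherian ring is integral. -/
theorem isIntegral_of_forall_prime {A : Type u} [CommRing A] [Algebra A R] [IsReduced R] [IsNoetherianRing R]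
    (x : R) (h : ∀ (K : Type u) [Field K] (f : R →+* K), (f.comp (algebraMap A R)).IsIntegralElem (f x)) :
    IsIntegral A x := by
  classical
  have hfin := minimalPrimes.finite_of_isNoetherianRing R
  have key : ∀ p : hfin.toFinset, ∃ q : Polynomial A, q.Monic ∧ Polynomial.aeval x q ∈ (p : Ideal R) := fun p => by
    haveI : (p : Ideal R).IsPrime := (hfin.mem_toFinset.1 p.2).1.1
    let f : R →+* FractionRing (R ⧸ (p : Ideal R)) :=
      (algebraMap (R ⧸ (p : Ideal R)) _).comp (Ideal.Quotient.mk _)
    obtain ⟨q, hq, hqe⟩ := h _ f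
    refine ⟨q, hq, Ideal.Quotient.eq_zero_iff_mem.1
      (IsFractionRing.injective (R ⧸ (p : Ideal R)) (FractionRing (R ⧸ (p : Ideal R))) ?_)⟩
    rw [map_zero, ← hqe, Polynomial.aeval_def]
    exact (Polynomial.hom_eval₂ q (algebraMap A R) f x)
  choose q hq hqm using key
  refine ⟨∏ p, q p, Polynomial.monic_prod_of_monic _ _ fun p _ => hq p, ?_⟩
  rw [← Polynomial.aeval_def]
  have h0 : Polynomial.aeval x (∏ p, q p) ∈ sInf (minimalPrimes R) := Submodule.mem_sInf.2 fun p hp => by
    rw [map_prod]
    exact Ideal.mem_of_dvd p (Finset.dvd_prod_of_mem _ (Finset.mem_univ (⟨p, hfin.mem_toFinset.2 hp⟩ : hfin.toFinset))) (hqm ⟨p, hfin.mem_toFinset.2 hp⟩)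
  have h1 : Polynomial.aeval x (∏ p, q p) ∈ (⊥ : Ideal R).radical := by
    rw [← Ideal.sInf_minimalPrimes]
    exact h0
  exact (Ideal.mem_bot).1 ((nilradical_eq_zero R).le h1)

variable {A : Type u} [CommRing A] [Algebra A R] [Algebra A B] [IsScalarTower A R B]

/-- The coefficients are integral when the elements are. -/
theorem isIntegral_coeff_polyNorm [IsReduced R] [IsNoetherianRing R] (b : Module.Basis (Fin d) R B) (y : σ → B)
    (hy : ∀ j, IsIntegral A (y j)) (α : σ →₀ ℕ) : IsIntegral A ((polyNorm R y).coeff α) := by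
  refine isIntegral_of_forall_prime _ fun K _ f => ?_
  letI : Algebra A K := (f.comp (algebraMap A R)).toAlgebra
  letI : Algebra (MvPolynomial σ A) (MvPolynomial σ K) := MvPolynomial.algebraMvPolynomial
  let K' := FractionRing (MvPolynomial σ K)
  let ρ : MvPolynomial σ A →+* MvPolynomial σ R ⊗[R] B :=
    (algebraMap (MvPolynomial σ R) _).comp (MvPolynomial.map (algebraMap A R))
  let z := ∑ j, (X j : MvPolynomial σ R) ⊗ₜ[R] y j
  have hz : ρ.IsIntegralElem z := by
    letI : Algebra (MvPolynomial σ A) (MvPolynomial σ R ⊗[R] B) := ρ.toAlgebra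
    show IsIntegral (MvPolynomial σ A) z
    refine IsIntegral.sum _ fun j _ => ?_
    have e : (X j : MvPolynomial σ R) ⊗ₜ[R] y j =
        ρ (X j) * (Algebra.TensorProduct.includeRight (R := R) (A := MvPolynomial σ R) (y j)) := by
      simp [ρ, Algebra.TensorProduct.algebraMap_apply, Algebra.TensorProduct.tmul_mul_tmul]
    rw [e]
    refine IsIntegral.mul (isIntegral_algebraMap (x := (X j : MvPolynomial σ A))) ?_
    obtain ⟨m, hm, hm0⟩ := hy j
    refine ⟨m.map C, hm.map _, ?_⟩
    have e2 : (algebraMap (MvPolynomial σ A) (MvPolynomial σ R ⊗[R] B)).comp C =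
        (Algebra.TensorProduct.includeRight (R := R) (A := MvPolynomial σ R)).toRingHom.comp (algebraMap A B) := by
      refine RingHom.ext fun a => ?_
      show ρ (C a) = (1 : MvPolynomial σ R) ⊗ₜ[R] (algebraMap A B a)
      rw [IsScalarTower.algebraMap_apply A R B, Algebra.algebraMap_eq_smul_one, TensorProduct.tmul_smul]
      simp [ρ, Algebra.smul_def, TensorProduct.smul_tmul']
    rw [Polynomial.eval₂_map, e2]
    exact (Polynomial.hom_eval₂ m (algebraMap A B) _ (y j)).symm.trans (by rw [hm0, map_zero])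
  obtain ⟨h, hh, hh0⟩ := hz
  let bT := Algebra.TensorProduct.basis (MvPolynomial σ R) b
  let T : MvPolynomial σ R ⊗[R] B →+* Matrix (Fin d) (Fin d) K' :=
    ((algebraMap (MvPolynomial σ K) K').comp (MvPolynomial.map f)).mapMatrix.comp (Algebra.leftMulMatrix bT).toRingHom
  have hT : T.comp ρ = algebraMap (MvPolynomial σ A) (Matrix (Fin d) (Fin d) K') := by
    refine RingHom.ext fun a => ?_
    show ((algebraMap (MvPolynomial σ K) K').comp (MvPolynomial.map f)).mapMatrix
      (Algebra.leftMulMatrix bT (algebraMap (MvPolynomial σ R) _ (MvPolynomial.map (algebraMap A R) a))) = _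
    rw [AlgHom.commutes]
    simp [Matrix.algebraMap_eq_diagonal, RingHom.mapMatrix_apply, MvPolynomial.map_map]
    intro i
    rw [IsScalarTower.algebraMap_apply (MvPolynomial σ A) (MvPolynomial σ K) K']
    rfl
  have hM : Polynomial.aeval (T z) h = 0 := by
    rw [Polynomial.aeval_def, ← hT, ← Polynomial.hom_eval₂, hh0, map_zero]
  have h1 := Groth.Agent.NormAmpleLib.isIntegral_charpoly_coeff (T z) hh hM 0
  have h2 : IsIntegral (MvPolynomial σ A) (T z).det := by
    rw [Matrix.det_eq_sign_charpoly_coeff]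
    exact ((isIntegral_one.neg).pow _).mul h1
  have e3 : (T z).det = algebraMap (MvPolynomial σ K) K' (MvPolynomial.map f (polyNorm R y)) := by
    rw [polyNorm, Algebra.norm_eq_matrix_det bT]
    exact (RingHom.map_det ((algebraMap (MvPolynomial σ K) K').comp (MvPolynomial.map f)) _).symm
  rw [e3, isIntegral_algebraMap_iff (IsFractionRing.injective (MvPolynomial σ K) K')] at h2
  have h3 := MvPolynomial.isIntegral_iff_isIntegral_coeff.1 h2 α
  rw [MvPolynomial.coeff_map] at h3
  exact h3

end Groth.Agent.FinModelLib
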